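import Groth.Agent.Lib.DualSch.Affine
import Groth.Agent.Lib.DMod.SkCriterion
import Groth.Agent.Lib.Modules.StalkRestrict
import Groth.Agent.Lib.Modules.StalkModule
import Groth.Agent.H46.FibreProf.LocStalk
import Groth.Agent.Lib.DerivedOX.TildeStalk

/-!
# The cohomology sheaf of a dualizing complex concentrated in one degree is Cohen–Macaulay
-/

set_option autoImplicit false
set_option linter.style.haveILetI false

universe u

open CategoryTheory CategoryTheory.Limits AlgebraicGeometry

attribute [local instance] HasDerivedCategory.standard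

namespace Groth.Agent.H20.CMDual.Stalk

open Groth.Agent.Lib

/-- Over a ring: the module underlying a dualizing complex concentrated in one degree is CM. -/
theorem isCM_localized {A : Type u} [CommRing A] {τ : Dual.D A} (hτ : Dual.IsDualizing A τ) (c : ℤ)
    (h : ∀ i : ℤ, i ≠ c → Subsingleton (Dual.HD A τ i)) (p : PrimeSpectrum A)
    (hp : p ∈ Module.support A (Dual.HD A τ c)) :
    LocCoh.IsCohenMacaulayModule (Localization.AtPrime p.asIdeal)
      (LocalizedModule p.asIdeal.primeCompl (Dual.HD A τ c)) := by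
  haveI := hτ.isNoetherianRing
  haveI := hτ.finite_cohomology c
  haveI : DerivedCategory.IsGE τ c := (DerivedCategory.isGE_iff _ _).2 fun i hi =>
    haveI := h i (by lia); ModuleCat.isZero_of_subsingleton _
  haveI : DerivedCategory.IsLE τ c := (DerivedCategory.isLE_iff _ _).2 fun i hi =>
    haveI := h i (by lia); ModuleCat.isZero_of_subsingleton _
  obtain ⟨M, ⟨e⟩⟩ := DerivedCategory.exists_iso_singleFunctor_obj_of_isGE_of_isLE τ c
  let eM : (DerivedCategory.homologyFunctor (ModuleCat.{u} A) c).obj τ ≅ M :=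
    (DerivedCategory.homologyFunctor _ c).mapIso e ≪≫
      (DerivedCategory.singleFunctorCompHomologyFunctorIso (ModuleCat.{u} A) c).app M
  let N : ModuleCat.{u} A := ModuleCat.of A (Dual.HD A τ c)
  let ec : Dual.inD A (Dual.HD A τ c) ≅ τ⟦c⟧ :=
    (DerivedCategory.singleFunctor (ModuleCat.{u} A) 0).mapIso eM ≪≫
      (((DerivedCategory.singleFunctors (ModuleCat.{u} A)).shiftIso c 0 c (add_zero c)).app M).symm ≪≫
      (shiftFunctor _ c).mapIso e.symm
  refine (DMod.SkCriterion.isCohenMacaulay_at_iff hτ p _ hp).2 fun i j hi hj => ?_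
  have key : ∀ i : ℤ, p ∈ Module.support A (Dual.inD A (Dual.HD A τ c) ⟶ τ⟦i⟧) → i = c := fun i hi => by
    by_contra hne
    haveI := hτ.ext_self_subsingleton (i - c) (by lia)
    haveI : Subsingleton (τ⟦c⟧ ⟶
        (shiftFunctor (Dual.D A) (i - c) ⋙ shiftFunctor (Dual.D A) c).obj τ) :=
      (DMod.Basic.homShiftEquiv τ (τ⟦i - c⟧) c).symm.toEquiv.subsingleton
    haveI : Subsingleton (Dual.inD A (Dual.HD A τ c) ⟶ τ⟦i⟧) :=
      (Iso.homCongr ec ((shiftFunctorAdd' (Dual.D A) (i - c) c i (by lia)).app τ)).subsingleton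
    rw [Module.support_eq_empty] at hi
    exact hi
  exact (key i hi).trans (key j hj).symm

/-- The transport to stalks. -/
theorem isCM_stalk {X : Scheme.{u}} {R : CommRingCat.{u}} (j : Spec R ⟶ X)
    [IsOpenImmersion j] (F : X.Modules) (N : ModuleCat.{u} R)
    (φ : F.restrict j ≅ (tilde.functor R).obj N) (q : ↥(Spec R))
    (h : LocCoh.IsCohenMacaulayModule (Localization.AtPrime q.asIdeal)
      (LocalizedModule q.asIdeal.primeCompl N)) :
    LocCoh.IsCohenMacaulayModule (X.presheaf.stalk (j q)) (F.presheaf.stalk (j q)) := by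
  let S := (Spec R).presheaf.stalk q
  letI : Algebra R S := StructureSheaf.stalkAlgebra R q
  haveI : IsLocalization.AtPrime S q.asIdeal := StructureSheaf.IsLocalization.to_stalk R q
  haveI : IsScalarTower R S ((tilde N).presheaf.stalk q) := .of_algebraMap_smul fun _ _ => rfl
  obtain ⟨h1, h2⟩ := Groth.Agent.H46.FibreProf.LocStalk.depth_supportDim_eq (Γ := R) q.asIdeal S
    ((tilde N).presheaf.stalk q) (tilde.toStalk N q).hom
  -- stalk of the restriction
  let eφ : (F.restrict j).presheaf.stalk q ≃ₗ[S] (tilde N).presheaf.stalk q :=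
    Modules.StalkModule.stalkLinearEquiv φ q
  let T := X.presheaf.stalk (j q)
  have hb : Function.Bijective (j.stalkMap q).hom := ConcreteCategory.bijective_of_isIso (j.stalkMap q)
  letI : Algebra T S := (j.stalkMap q).hom.toAlgebra
  letI : Module T ((F.restrict j).presheaf.stalk q) := Module.compHom _ (j.stalkMap q).hom
  haveI : IsScalarTower T S ((F.restrict j).presheaf.stalk q) :=
    IsScalarTower.of_algebraMap_smul fun _ _ => rfl
  let e : (F.restrict j).presheaf.stalk q ≃ₗ[T] F.presheaf.stalk (j q) :=
    { Modules.StalkRestrict.restrictStalkAddEquiv j F q with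
      map_smul' := fun a v => Modules.StalkRestrict.restrictStalkAddEquiv_smul j F q a v }
  show Module.supportDim T (F.presheaf.stalk (j q)) = _
  rw [← Module.supportDim_eq_of_equiv e,
    show LocCoh.depth T (F.presheaf.stalk (j q)) = LocCoh.depth T ((F.restrict j).presheaf.stalk q) from
      (Depth.Basic.depth_congr e).symm,
    ← DMod.LocLoc.supportDim_eq (R := T) (S := S) hb, ← DMod.LocLoc.depth_eq (R := T) (S := S) hb,
    Module.supportDim_eq_of_equiv eφ,
    show LocCoh.depth S ((F.restrict j).presheaf.stalk q) =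
      LocCoh.depth S ((tilde N).presheaf.stalk q) from Depth.Basic.depth_congr eφ, h1, h2]
  exact h

end Groth.Agent.H20.CMDual.Stalk
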